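import Groth.Prelude.Def_CycDet
import Groth.Agent.LenLib.Localized
import Mathlib.RingTheory.Ideal.AssociatedPrime.Localization
import Mathlib.RingTheory.Support
import Mathlib.LinearAlgebra.Isomorphisms
import Mathlib.RingTheory.Noetherian.Basic

/-!
Sequences whose successive quotients are `R/q`, for `q` minimal in the support.
-/

namespace Groth.Agent.CycHerb

open Function Groth.Agent.LenLib

universe u v

variable {R : Type u} [CommRing R] [IsLocalRing R] {M : Type v} [AddCommGroup M] [Module R M]

theorem spanBefore_zero {l : ℕ} (x : Fin l → M) : CycDet.spanBefore R M x 0 = ⊥ := by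
  have : {j : Fin l | (j : ℕ) < 0} = ∅ := by ext j; simp
  rw [CycDet.spanBefore, this, Set.image_empty, Submodule.span_empty]

theorem spanBefore_top {l : ℕ} (x : Fin l → M) :
    CycDet.spanBefore R M x l = Submodule.span R (Set.range x) := by
  have : {j : Fin l | (j : ℕ) < l} = Set.univ := by ext j; simp
  rw [CycDet.spanBefore, this, Set.image_univ]

theorem spanBefore_mono {l : ℕ} (x : Fin l → M) {i j : ℕ} (h : i ≤ j) :
    CycDet.spanBefore R M x i ≤ CycDet.spanBefore R M x j :=
  Submodule.span_mono (Set.image_mono fun _ hk => lt_of_lt_of_le hk h)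

theorem spanBefore_snoc {l : ℕ} (x : Fin l → M) (y : M) {i : ℕ} (h : i ≤ l) :
    CycDet.spanBefore R M (Fin.snoc x y : Fin (l + 1) → M) i = CycDet.spanBefore R M x i := by
  unfold CycDet.spanBefore
  congr 1
  ext z
  constructor
  · rintro ⟨j, hj, rfl⟩
    have hj' : (j : ℕ) < l := lt_of_lt_of_le hj h
    refine ⟨⟨j, hj'⟩, hj, ?_⟩
    exact (Fin.snoc_castSucc (α := fun _ => M) y x ⟨j, hj'⟩).symm
  · rintro ⟨j, hj, rfl⟩
    exact ⟨j.castSucc, hj, by rw [Fin.snoc_castSucc]⟩

theorem span_range_snoc {l : ℕ} (x : Fin l → M) (y : M) :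
    Submodule.span R (Set.range (Fin.snoc x y : Fin (l + 1) → M)) =
      Submodule.span R (Set.range x) ⊔ Submodule.span R {y} := by
  rw [Fin.range_snoc, Submodule.span_insert, sup_comm]

/-- the successive quotient at step `i` -/
abbrev StepQuot (R : Type u) [CommRing R] [IsLocalRing R] {M : Type v} [AddCommGroup M] [Module R M]
    {l : ℕ} (x : Fin l → M) (i : ℕ) : Type v :=
  ↥(CycDet.spanBefore R M x (i + 1)) ⧸
    (CycDet.spanBefore R M x i).submoduleOf (CycDet.spanBefore R M x (i + 1))

theorem exists_goodSeq [IsNoetherianRing R] [Module.Finite R M] (q : PrimeSpectrum R)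
    (hq : Minimal (fun p : PrimeSpectrum R => p ∈ Module.support R M) q) :
    ∃ (l : ℕ) (x : Fin l → M), q ∉ Module.support R (M ⧸ Submodule.span R (Set.range x)) ∧
      ∀ i : Fin l, Nonempty (StepQuot R x i ≃ₗ[R] (R ⧸ q.asIdeal)) := by
  let S : Set (Submodule R M) := {N | ∃ (l : ℕ) (x : Fin l → M),
    Submodule.span R (Set.range x) = N ∧
      ∀ i : Fin l, Nonempty (StepQuot R x i ≃ₗ[R] (R ⧸ q.asIdeal))}
  have hS : S.Nonempty := ⟨⊥, 0, Fin.elim0, by simp, fun i => i.elim0⟩
  obtain ⟨N, ⟨l, x, hx, hsteps⟩, hmax⟩ :=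
    set_has_maximal_iff_noetherian.2 (inferInstanceAs (IsNoetherian R M)) S hS
  refine ⟨l, x, ?_, hsteps⟩
  rw [hx]
  intro hmem
  have hmin : q.asIdeal ∈ (Module.annihilator R (M ⧸ N)).minimalPrimes := by
    refine ⟨⟨q.2, Module.annihilator_le_of_mem_support hmem⟩, ?_⟩
    rintro J ⟨hJ, hJle⟩ hJq
    have hJmem : (⟨J, hJ⟩ : PrimeSpectrum R) ∈ Module.support R M := by
      refine Module.support_subset_of_surjective N.mkQ (Submodule.mkQ_surjective _) ?_
      rw [Module.support_eq_zeroLocus]; exact hJle
    exact hq.2 hJmem hJq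
  have hass := Module.associatedPrimes.minimalPrimes_annihilator_subset_associatedPrimes R (M ⧸ N) hmin
  rw [AssociatedPrimes.mem_iff, isAssociatedPrime_iff_exists_injective_linearMap] at hass
  obtain ⟨-, f, hf⟩ := hass
  obtain ⟨y, hy⟩ := Submodule.mkQ_surjective N (f (Ideal.Quotient.mk q.asIdeal 1))
  have hyN : y ∉ N := by
    intro h
    have h0 : f (Ideal.Quotient.mk q.asIdeal 1) = 0 := by
      rw [← hy]; exact (Submodule.Quotient.mk_eq_zero N).2 h
    have := hf (h0.trans (map_zero f).symm)
    rw [Ideal.Quotient.eq_zero_iff_mem] at this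
    exact q.2.ne_top ((Ideal.eq_top_iff_one _).2 this)
  refine hmax (N ⊔ Submodule.span R {y}) ⟨l + 1, Fin.snoc x y, ?_, ?_⟩ ?_
  · rw [span_range_snoc, hx]
  · intro i
    induction i using Fin.lastCases with
    | last =>
      have e0 : CycDet.spanBefore R M (Fin.snoc x y : Fin (l + 1) → M) l = N := by
        rw [spanBefore_snoc x y le_rfl, spanBefore_top, hx]
      have e1 : CycDet.spanBefore R M (Fin.snoc x y : Fin (l + 1) → M) (l + 1) =
          N ⊔ Submodule.span R {y} := by
        rw [spanBefore_top, span_range_snoc, hx]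
      show Nonempty (StepQuot R (Fin.snoc x y : Fin (l + 1) → M) l ≃ₗ[R] (R ⧸ q.asIdeal))
      unfold StepQuot
      rw [e0, e1]
      let g : ↥(N ⊔ Submodule.span R {y}) →ₗ[R] M ⧸ N :=
        N.mkQ ∘ₗ (N ⊔ Submodule.span R {y}).subtype
      have hk : LinearMap.ker g = N.submoduleOf (N ⊔ Submodule.span R {y}) := by
        rw [LinearMap.ker_comp, Submodule.ker_mkQ]; rfl
      have hr : LinearMap.range g = LinearMap.range f := by
        rw [LinearMap.range_comp, Submodule.range_subtype, Submodule.map_sup,
          Submodule.mkQ_map_self, bot_sup_eq, Submodule.map_span, Set.image_singleton, hy]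
        refine le_antisymm (by rw [Submodule.span_le]; simp) ?_
        rintro _ ⟨a, rfl⟩
        obtain ⟨r, rfl⟩ := Ideal.Quotient.mk_surjective a
        refine Submodule.mem_span_singleton.2 ⟨r, ?_⟩
        rw [← map_smul, Algebra.smul_def, Ideal.Quotient.algebraMap_eq, ← map_mul, mul_one]
      exact ⟨(((Submodule.quotEquivOfEq _ _ hk.symm).trans g.quotKerEquivRange).trans
        (LinearEquiv.ofEq _ _ hr)).trans (LinearEquiv.ofInjective f hf).symm⟩
    | cast i =>
      show Nonempty (StepQuot R (Fin.snoc x y : Fin (l + 1) → M) i ≃ₗ[R] (R ⧸ q.asIdeal))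
      unfold StepQuot
      rw [spanBefore_snoc x y (by omega), spanBefore_snoc x y (by omega)]
      exact hsteps i
  · refine lt_of_le_of_ne le_sup_left fun e => hyN ?_
    rw [e]
    exact Submodule.mem_sup_right (Submodule.mem_span_singleton_self y)

theorem goodSeq_length (q : PrimeSpectrum R) {l : ℕ} (x : Fin l → M)
    (h : q ∉ Module.support R (M ⧸ Submodule.span R (Set.range x)))
    (hs : ∀ i : Fin l, Nonempty (StepQuot R x i ≃ₗ[R] (R ⧸ q.asIdeal))) :
    (l : ℕ∞) = Module.length (Localization q.asIdeal.primeCompl)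
      (LocalizedModule q.asIdeal.primeCompl M) := by
  let a : ℕ → ℕ∞ := fun i => Module.length (Localization q.asIdeal.primeCompl)
    (LocalizedModule q.asIdeal.primeCompl ↥(CycDet.spanBefore R M x i))
  have h0 : a 0 = 0 := by
    have : Subsingleton ↥(CycDet.spanBefore R M x 0) := by
      rw [spanBefore_zero]; infer_instance
    have : Subsingleton (LocalizedModule q.asIdeal.primeCompl ↥(CycDet.spanBefore R M x 0)) :=
      LocalizedModule.subsingleton_iff.2 fun m => ⟨1, one_mem _, Subsingleton.elim _ _⟩
    exact Module.length_eq_zero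
  have hstep : ∀ i, i < l → a (i + 1) = a i + 1 := by
    intro i hi
    obtain ⟨e⟩ := hs ⟨i, hi⟩
    have e1 := length_localized_add q.asIdeal.primeCompl
      (Submodule.inclusion (spanBefore_mono (R := R) x (Nat.le_succ i)))
      ((CycDet.spanBefore R M x i).submoduleOf (CycDet.spanBefore R M x (i + 1))).mkQ
      (Submodule.inclusion_injective _) (Submodule.mkQ_surjective _) (by
        rw [LinearMap.exact_iff, Submodule.ker_mkQ, Submodule.range_inclusion]; rfl)
    have e2 := length_localized_quotient_eq_one q.asIdeal e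
    rw [e2] at e1
    exact e1
  have hl : ∀ i, i ≤ l → a i = i := by
    intro i
    induction i with
    | zero => intro _; simpa using h0
    | succ i ih => intro hi; rw [hstep i hi, ih (by omega)]; norm_num
  have e1 := length_localized_add q.asIdeal.primeCompl
    (Submodule.span R (Set.range x)).subtype (Submodule.span R (Set.range x)).mkQ
    (Submodule.injective_subtype _) (Submodule.mkQ_surjective _)
    (LinearMap.exact_subtype_mkQ _)
  have : Subsingleton (LocalizedModule q.asIdeal.primeCompl (M ⧸ Submodule.span R (Set.range x))) :=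
    Module.notMem_support_iff.1 h
  have hl' := hl l le_rfl
  simp only [a] at hl'
  rw [spanBefore_top] at hl'
  rw [e1, hl', Module.length_eq_zero, add_zero]

end Groth.Agent.CycHerb
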