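import Groth.Agent.CycHerb.MinimalPrime
import Groth.Agent.LenLib.DomainDet
import Mathlib.Tactic.Linarith

/-!
The index of multiplication by a ring element on a finite module of dimension at most one.
-/

namespace Groth.Agent.CycHerb

open Groth.Agent.LenLib Function LinearMap Pointwise

universe u v

variable {R : Type u} [CommRing R]

theorem range_lsmul_eq {M : Type v} [AddCommGroup M] [Module R M] (x : R) :
    range (lsmul R M x) = x • (⊤ : Submodule R M) := by
  ext m
  rw [Submodule.mem_smul_pointwise_iff_exists]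
  constructor
  · rintro ⟨w, rfl⟩; exact ⟨w, trivial, rfl⟩
  · rintro ⟨w, -, rfl⟩; exact ⟨w, rfl⟩

theorem lenZ_coker_lsmul_quot (q : Ideal R) (x : R) :
    lenZ R ((R ⧸ q) ⧸ range (lsmul R (R ⧸ q) x)) = ordZ (Ideal.Quotient.mk q x) := by
  have h : range (lsmul R (R ⧸ q) x) =
      (Ideal.span {Ideal.Quotient.mk q x}).restrictScalars R := by
    ext m
    rw [Submodule.restrictScalars_mem, Ideal.mem_span_singleton']
    constructor
    · rintro ⟨w, rfl⟩
      refine ⟨w, ?_⟩
      rw [lsmul_apply, Algebra.smul_def, Ideal.Quotient.algebraMap_eq, mul_comm]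
    · rintro ⟨w, rfl⟩
      refine ⟨w, ?_⟩
      rw [lsmul_apply, Algebra.smul_def, Ideal.Quotient.algebraMap_eq, mul_comm]
  rw [lenZ_congr ((Submodule.quotEquivOfEq _ _ h).trans
    (Submodule.Quotient.restrictScalarsEquiv R (Ideal.span {Ideal.Quotient.mk q x})))]
  unfold ordZ lenZ
  rw [Module.length_eq_of_surjective (S := R) (R := R ⧸ q) Ideal.Quotient.mk_surjective]

variable [IsNoetherianRing R]

theorem index_lsmul_eq_sum [IsLocalRing R] (x : R) (T : Finset (PrimeSpectrum R))
    (hT : ∀ p ∈ T, ¬ p.asIdeal.IsMaximal) (hanti : ∀ p ∈ T, ∀ q ∈ T, q ≤ p → q = p)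
    (hx : ∀ p ∈ T, x ∉ p.asIdeal) {M : Type v} [AddCommGroup M] [Module R M]
    [hM : Module.Finite R M]
    (hsupp : ∀ p ∈ Module.support R M, ¬ p.asIdeal.IsMaximal → p ∈ T) :
    HasIndex (lsmul R M x) ∧ index (lsmul R M x) = ∑ p ∈ T,
      ordZ (Ideal.Quotient.mk p.asIdeal x) *
        lenZ (Localization p.asIdeal.primeCompl) (LocalizedModule p.asIdeal.primeCompl M) := by
  revert hsupp
  induction hM using IsNoetherianRing.induction_on_isQuotientEquivQuotientPrime R with
  | subsingleton N =>
    intro _
    have hb : Bijective (lsmul R N x) :=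
      ⟨fun a b _ => Subsingleton.elim a b, fun a => ⟨a, Subsingleton.elim _ _⟩⟩
    refine ⟨hasIndex_of_bijective hb, ?_⟩
    rw [index_of_bijective hb, Finset.sum_eq_zero]
    intro p _
    simp [lenZ, Module.length_eq_zero]
  | quotient N q f =>
    intro hsupp
    have hqs : q ∈ Module.support R N := by
      rw [f.support_eq, Module.support_eq_zeroLocus, Ideal.annihilator_quotient]
      exact le_refl q.asIdeal
    by_cases hqm : q.asIdeal.IsMaximal
    · have hN : Module.length R N ≠ ⊤ := length_ne_top_of_support_maximal fun p hp => by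
        rw [f.support_eq, Module.support_eq_zeroLocus, Ideal.annihilator_quotient] at hp
        rw [← hqm.eq_of_le p.2.ne_top hp]; exact hqm
      refine ⟨hasIndex_of_finite hN hN, ?_⟩
      rw [index_of_finite hN hN, sub_self, Finset.sum_eq_zero]
      intro p hp
      have : ¬ q.asIdeal ≤ p.asIdeal := fun h => hT p hp (by
        rw [← hqm.eq_of_le p.2.ne_top h]; exact hqm)
      simp [lenZ, length_localized_quotient_eq_zero p.asIdeal q.asIdeal f this]
    · have hq : q ∈ T := hsupp q hqs hqm
      have hinj : Injective (lsmul R (R ⧸ q.asIdeal) x) := by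
        intro a b h
        obtain ⟨a, rfl⟩ := Ideal.Quotient.mk_surjective a
        obtain ⟨b, rfl⟩ := Ideal.Quotient.mk_surjective b
        simp only [lsmul_apply, Algebra.smul_def, Ideal.Quotient.algebraMap_eq, ← map_mul,
          Ideal.Quotient.eq, ← mul_sub] at h ⊢
        exact (q.2.mem_or_mem h).resolve_left (hx q hq)
      have hfin : Module.length R ((R ⧸ q.asIdeal) ⧸ range (lsmul R (R ⧸ q.asIdeal) x)) ≠ ⊤ := by
        refine length_ne_top_of_support_maximal fun p hp => ?_
        rw [range_lsmul_eq] at hp
        change p ∈ Module.support R (QuotSMulTop x (R ⧸ q.asIdeal)) at hp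
        rw [Module.support_quotSMulTop, Set.mem_inter_iff, PrimeSpectrum.mem_zeroLocus,
          Set.singleton_subset_iff, ← f.support_eq] at hp
        by_contra hpm
        have hpT := hsupp p hp.1 hpm
        rw [f.support_eq, Module.support_eq_zeroLocus, Ideal.annihilator_quotient] at hp
        have hqp : q ≤ p := hp.1
        have := hanti p hpT q hq hqp
        subst this
        exact hx q hq hp.2
      have hidx : HasIndex (lsmul R (R ⧸ q.asIdeal) x) :=
        ⟨by
          have : Subsingleton (ker (lsmul R (R ⧸ q.asIdeal) x)) := by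
            rw [Submodule.subsingleton_iff_eq_bot]; exact ker_eq_bot.2 hinj
          simp [Module.length_eq_zero], hfin⟩
      obtain ⟨h1, h2⟩ := hasIndex_index_congr (f' := lsmul R N x) f.symm f.symm
        (fun z => by rw [lsmul_apply, lsmul_apply, map_smul]) hidx
      refine ⟨h1, ?_⟩
      rw [h2, index_of_injective hinj, lenZ_coker_lsmul_quot, Finset.sum_eq_single_of_mem q hq]
      · simp [lenZ, length_localized_quotient_eq_one q.asIdeal f]
      · intro p hp hne
        have : ¬ q.asIdeal ≤ p.asIdeal := fun h => hne (hanti p hp q hq h).symm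
        simp [lenZ, length_localized_quotient_eq_zero p.asIdeal q.asIdeal f this]
  | exact N₁ N₂ N₃ f g hf hg hfg h₁ h₃ =>
    intro hsupp
    obtain ⟨a1, a2⟩ := h₁ fun p hp => hsupp p (Module.support_subset_of_injective f hf hp)
    obtain ⟨b1, b2⟩ := h₃ fun p hp => hsupp p (Module.support_subset_of_surjective g hg hp)
    obtain ⟨c1, c2⟩ := hasIndex_index_of_ladder (i₁ := lsmul R N₁ x) (i₂ := lsmul R N₂ x)
      (i₃ := lsmul R N₃ x) hf hfg hg hf hfg hg (by ext z; simp) (by ext z; simp) a1 b1
    refine ⟨c1, ?_⟩
    rw [c2, a2, b2, ← Finset.sum_add_distrib]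
    refine Finset.sum_congr rfl fun p hp => ?_
    have hloc : ∀ (N : Type v) [AddCommGroup N] [Module R N] [Module.Finite R N],
        (∀ q ∈ Module.support R N, q ∈ Module.support R N₂) →
        Module.length (Localization p.asIdeal.primeCompl)
          (LocalizedModule p.asIdeal.primeCompl N) ≠ ⊤ := by
      intro N _ _ _ hN
      refine length_localized_ne_top p fun q hq hqp => hanti p hp q (hsupp q (hN q hq) ?_) hqp
      intro hqm
      exact hT p hp (by rw [← hqm.eq_of_le p.2.ne_top hqp]; exact hqm)
    have := hloc N₁ fun q hq => Module.support_subset_of_injective f hf hq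
    have := hloc N₃ fun q hq => Module.support_subset_of_surjective g hg hq
    unfold lenZ
    rw [length_localized_add _ f g hf hg hfg, ENat.toNat_add (by assumption) (by assumption)]
    push_cast
    ring

/-- The non-maximal primes in the support of a finite module of dimension at most one form a finite
antichain. -/
theorem finite_nonMaximal_support [IsLocalRing R] {M : Type v} [AddCommGroup M] [Module R M]
    [Module.Finite R M] (hdim : Module.supportDim R M ≤ 1) :
    {p : PrimeSpectrum R | p ∈ Module.support R M ∧ ¬ p.asIdeal.IsMaximal}.Finite := by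
  refine Set.Finite.subset
    (((Module.annihilator R M).finite_minimalPrimes_of_isNoetherianRing).preimage
      (f := PrimeSpectrum.asIdeal) (fun a _ b _ h => PrimeSpectrum.ext h)) ?_
  rintro p ⟨hp, hpm⟩
  refine ⟨⟨p.2, Module.annihilator_le_of_mem_support hp⟩, ?_⟩
  rintro J ⟨hJ, hJle⟩ hJp
  have hJmem : (⟨J, hJ⟩ : PrimeSpectrum R) ∈ Module.support R M := by
    rw [Module.support_eq_zeroLocus]; exact hJle
  exact (congr_arg PrimeSpectrum.asIdeal (supportDim_le_one_minimal hdim hpm hJmem hJp)).ge

end Groth.Agent.CycHerb
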