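import Groth.Agent.CycHerb.FiniteLength
import Groth.Agent.LenLib.Localized
import Groth.Agent.LenLib.Index

/-!
Localization of a finite module at a minimal prime of its support.
-/

namespace Groth.Agent.CycHerb

open Groth.Agent.LenLib Function

universe u v

variable {R : Type u} [CommRing R] [IsNoetherianRing R]

theorem length_localized_ne_top {M : Type v} [AddCommGroup M] [Module R M] [hM : Module.Finite R M]
    (p : PrimeSpectrum R) (h : ∀ q ∈ Module.support R M, q ≤ p → q = p) :
    Module.length (Localization p.asIdeal.primeCompl) (LocalizedModule p.asIdeal.primeCompl M)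
      ≠ ⊤ := by
  revert h
  induction hM using IsNoetherianRing.induction_on_isQuotientEquivQuotientPrime R with
  | subsingleton N => intro _; simp [Module.length_eq_zero]
  | quotient N q f =>
    intro h
    by_cases hq : q.asIdeal ≤ p.asIdeal
    · have : q = p := h q (by
        rw [f.support_eq, Module.support_eq_zeroLocus, Ideal.annihilator_quotient]
        exact le_refl q.asIdeal) hq
      subst this
      rw [length_localized_quotient_eq_one _ f]
      exact ENat.coe_ne_top 1
    · rw [length_localized_quotient_eq_zero _ _ f hq]
      exact ENat.coe_ne_top 0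
  | exact N₁ N₂ N₃ f g hf hg hfg h₁ h₃ =>
    intro h
    rw [length_localized_add _ f g hf hg hfg]
    exact WithTop.add_ne_top.2
      ⟨h₁ fun q hq => h q (Module.support_subset_of_injective f hf hq),
        h₃ fun q hq => h q (Module.support_subset_of_surjective g hg hq)⟩

theorem notMem_support_coker_of_injective {M : Type v} [AddCommGroup M] [Module R M]
    [Module.Finite R M] (p : PrimeSpectrum R) (h : ∀ q ∈ Module.support R M, q ≤ p → q = p)
    (f : M →ₗ[R] M) (hf : Injective f) :
    p ∉ Module.support R (M ⧸ LinearMap.range f) := by
  rw [Module.notMem_support_iff]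
  have hfin := length_localized_ne_top p h
  have e := length_localized_add p.asIdeal.primeCompl f (LinearMap.range f).mkQ hf
    (Submodule.mkQ_surjective _) (LinearMap.exact_map_mkQ_range f)
  rw [← Module.length_eq_zero_iff (R := Localization p.asIdeal.primeCompl)]
  by_contra hne
  exact absurd (e.trans (add_comm _ _)) (ne_of_lt (ENat.lt_add_left hfin (pos_iff_ne_zero.2 hne)))

theorem supportDim_le_one_minimal {M : Type v} [AddCommGroup M] [Module R M] [IsLocalRing R]
    (hdim : Module.supportDim R M ≤ 1) {p : PrimeSpectrum R}
    (hp' : ¬ p.asIdeal.IsMaximal) {q : PrimeSpectrum R} (hq : q ∈ Module.support R M)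
    (hqp : q ≤ p) : q = p := by
  by_contra hne
  have h1 : q < p := lt_of_le_of_ne hqp hne
  have h2 : p < IsLocalRing.closedPoint R := by
    refine lt_of_le_of_ne (IsLocalRing.le_maximalIdeal p.2.ne_top) ?_
    intro e; apply hp'; rw [e]; exact IsLocalRing.maximalIdeal.isMaximal R
  have hp : p ∈ Module.support R M := Module.mem_support_mono hqp hq
  have hm : IsLocalRing.closedPoint R ∈ Module.support R M := Module.mem_support_mono h2.le hp
  let s : LTSeries (Module.support R M) :=
    LTSeries.mk 2 ![⟨q, hq⟩, ⟨p, hp⟩, ⟨_, hm⟩] (Fin.strictMono_iff_lt_succ.2 fun i => by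
      fin_cases i
      · exact h1
      · exact h2)
  have h3 : ((s.length : ℕ) : WithBot ℕ∞) ≤ 1 :=
    le_trans (Order.LTSeries.length_le_krullDim s) hdim
  have : s.length = 2 := rfl
  rw [this] at h3
  norm_cast at h3

theorem length_coker_ne_top_of_injective {M : Type v} [AddCommGroup M] [Module R M] [IsLocalRing R]
    [Module.Finite R M] (hdim : Module.supportDim R M ≤ 1) (f : M →ₗ[R] M) (hf : Injective f) :
    Module.length R (M ⧸ LinearMap.range f) ≠ ⊤ := by
  refine length_ne_top_of_support_maximal fun p hp => ?_
  by_contra hp'
  exact notMem_support_coker_of_injective p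
    (fun q hq hqp => supportDim_le_one_minimal hdim hp' hq hqp) f hf hp

end Groth.Agent.CycHerb
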