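import Groth.Prelude.Def_CycAlg
import Groth.Agent.LenLib.Index
import Mathlib.LinearAlgebra.Isomorphisms
import Mathlib.Tactic.Linarith

/-!
Herbrand quotients of 2-periodic complexes: functoriality and the hexagon.
-/

namespace Groth.Agent.CycHerb

open Function LinearMap Groth.Agent.LenLib CycAlg

universe u v

variable {R : Type u} [CommRing R]

section maps

variable {M₁ N₁ M₂ N₂ : Type v} [AddCommGroup M₁] [Module R M₁] [AddCommGroup N₁] [Module R N₁]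
  [AddCommGroup M₂] [Module R M₂] [AddCommGroup N₂] [Module R N₂]
  {φ₁ : M₁ →ₗ[R] N₁} {ψ₁ : N₁ →ₗ[R] M₁} {φ₂ : M₂ →ₗ[R] N₂} {ψ₂ : N₂ →ₗ[R] M₂}

theorem hmk_eq_iff {x y : ker φ₁} :
    (Submodule.Quotient.mk x : perH φ₁ ψ₁) = Submodule.Quotient.mk y ↔
      ∃ z, ψ₁ z = (x : M₁) - y := by
  rw [Submodule.Quotient.eq]; rfl

theorem hmk_eq_zero_iff {x : ker φ₁} :
    (Submodule.Quotient.mk x : perH φ₁ ψ₁) = 0 ↔ ∃ z, ψ₁ z = (x : M₁) := by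
  rw [Submodule.Quotient.mk_eq_zero]; rfl

/-- the map induced on cohomology by a morphism of periodic complexes -/
def perMap (f : M₁ →ₗ[R] M₂) (g : N₁ →ₗ[R] N₂) (hφ : φ₂ ∘ₗ f = g ∘ₗ φ₁)
    (hψ : ψ₂ ∘ₗ g = f ∘ₗ ψ₁) : perH φ₁ ψ₁ →ₗ[R] perH φ₂ ψ₂ :=
  Submodule.mapQ _ _
    (f.restrict (p := ker φ₁) (q := ker φ₂) fun x hx => by
      rw [mem_ker] at hx ⊢
      have := DFunLike.congr_fun hφ x
      simp only [LinearMap.comp_apply] at this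
      rw [this, hx, map_zero])
    (by
      rintro x ⟨z, hz⟩
      refine ⟨g z, ?_⟩
      have := DFunLike.congr_fun hψ z
      simp only [LinearMap.comp_apply] at this
      rw [this, hz]; rfl)

theorem perMap_mk (f : M₁ →ₗ[R] M₂) (g : N₁ →ₗ[R] N₂) (hφ : φ₂ ∘ₗ f = g ∘ₗ φ₁)
    (hψ : ψ₂ ∘ₗ g = f ∘ₗ ψ₁) (x : ker φ₁) :
    ∃ h : f x ∈ ker φ₂,
      perMap f g hφ hψ (Submodule.Quotient.mk x) = Submodule.Quotient.mk ⟨f x, h⟩ := by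
  refine ⟨?_, rfl⟩
  rw [mem_ker]
  have := DFunLike.congr_fun hφ (x : M₁)
  simp only [LinearMap.comp_apply] at this
  rw [this, mem_ker.1 x.2, map_zero]

end maps

section seq

variable {M₁ N₁ M₂ N₂ M₃ N₃ : Type v} [AddCommGroup M₁] [Module R M₁] [AddCommGroup N₁]
  [Module R N₁] [AddCommGroup M₂] [Module R M₂] [AddCommGroup N₂] [Module R N₂] [AddCommGroup M₃]
  [Module R M₃] [AddCommGroup N₃] [Module R N₃]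
  {φ₁ : M₁ →ₗ[R] N₁} {ψ₁ : N₁ →ₗ[R] M₁} {φ₂ : M₂ →ₗ[R] N₂} {ψ₂ : N₂ →ₗ[R] M₂}
  {φ₃ : M₃ →ₗ[R] N₃} {ψ₃ : N₃ →ₗ[R] M₃}
  {f₁ : M₁ →ₗ[R] M₂} {g₁ : N₁ →ₗ[R] N₂} {f₂ : M₂ →ₗ[R] M₃} {g₂ : N₂ →ₗ[R] N₃}
  (cφ₁ : φ₂ ∘ₗ f₁ = g₁ ∘ₗ φ₁) (cψ₁ : ψ₂ ∘ₗ g₁ = f₁ ∘ₗ ψ₁)
  (cφ₂ : φ₃ ∘ₗ f₂ = g₂ ∘ₗ φ₂) (cψ₂ : ψ₃ ∘ₗ g₂ = f₂ ∘ₗ ψ₂)

include cψ₂ in
theorem exact_mid (h₂ : IsPeriodic φ₂ ψ₂) (hg₁ : Injective g₁) (hg₂ : Surjective g₂)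
    (hM : Exact f₁ f₂) :
    Exact (perMap f₁ g₁ cφ₁ cψ₁) (perMap f₂ g₂ cφ₂ cψ₂) := by
  intro q
  obtain ⟨x, rfl⟩ := Submodule.Quotient.mk_surjective _ q
  obtain ⟨_, e⟩ := perMap_mk f₂ g₂ cφ₂ cψ₂ x
  rw [e, hmk_eq_zero_iff]
  constructor
  · rintro ⟨y₃, hy⟩
    obtain ⟨y₂, rfl⟩ := hg₂ y₃
    have c := DFunLike.congr_fun cψ₂ y₂
    simp only [LinearMap.comp_apply] at c
    obtain ⟨x₁, hx₁⟩ := (hM ((x : M₂) - ψ₂ y₂)).1 (by rw [map_sub, ← c, hy]; simp)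
    have hφ : φ₂ (ψ₂ y₂) = 0 := DFunLike.congr_fun h₂.1 y₂
    have hx₁' : φ₁ x₁ = 0 := by
      apply hg₁
      have c' := DFunLike.congr_fun cφ₁ x₁
      simp only [LinearMap.comp_apply] at c'
      rw [← c', hx₁, map_sub, hφ, mem_ker.1 x.2, sub_zero, map_zero]
    refine ⟨Submodule.Quotient.mk ⟨x₁, hx₁'⟩, ?_⟩
    obtain ⟨_, e'⟩ := perMap_mk f₁ g₁ cφ₁ cψ₁ ⟨x₁, hx₁'⟩
    rw [e', hmk_eq_iff]
    exact ⟨-y₂, by simp [hx₁]⟩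
  · rintro ⟨w, hw⟩
    obtain ⟨x₁, rfl⟩ := Submodule.Quotient.mk_surjective _ w
    obtain ⟨_, e'⟩ := perMap_mk f₁ g₁ cφ₁ cψ₁ x₁
    rw [e', hmk_eq_iff] at hw
    obtain ⟨z, hz⟩ := hw
    refine ⟨-g₂ z, ?_⟩
    have c := DFunLike.congr_fun cψ₂ z
    simp only [LinearMap.comp_apply] at c
    rw [map_neg, c, hz, map_sub, hM.apply_apply_eq_zero]
    simp

variable (h₁ : IsPeriodic φ₁ ψ₁) (h₂ : IsPeriodic φ₂ ψ₂) (hf₁ : Injective f₁) (hg₁ : Injective g₁)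
  (hf₂ : Surjective f₂) (hg₂ : Surjective g₂) (hM : Exact f₁ f₂) (hN : Exact g₁ g₂)

include cφ₁ cψ₁ cφ₂ cψ₂ h₂ hf₁ hf₂ hg₁ hg₂ hM hN in
theorem exists_connecting :
    ∃ δ : perH φ₃ ψ₃ →ₗ[R] perH ψ₁ φ₁, Exact (perMap f₂ g₂ cφ₂ cψ₂) δ ∧
      Exact δ (perMap g₁ f₁ cψ₁ cφ₁) := by
  let S : Submodule R (M₂ × N₁) := ker (φ₂ ∘ₗ fst R M₂ N₁ - g₁ ∘ₗ snd R M₂ N₁)
  have hS : ∀ s : S, φ₂ (s : M₂ × N₁).1 = g₁ (s : M₂ × N₁).2 := fun s => by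
    have := mem_ker.1 s.2
    rw [LinearMap.sub_apply, sub_eq_zero] at this
    exact this
  have hψ1 : ∀ s : S, ψ₁ (s : M₂ × N₁).2 = 0 := fun s => by
    apply hf₁
    have c := DFunLike.congr_fun cψ₁ (s : M₂ × N₁).2
    simp only [LinearMap.comp_apply] at c
    rw [← c, ← hS s, map_zero]
    exact DFunLike.congr_fun h₂.2 _
  have hφ3 : ∀ s : S, φ₃ (f₂ (s : M₂ × N₁).1) = 0 := fun s => by
    have c := DFunLike.congr_fun cφ₂ (s : M₂ × N₁).1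
    simp only [LinearMap.comp_apply] at c
    rw [c, hS s, hN.apply_apply_eq_zero]
  let p : S →ₗ[R] perH φ₃ ψ₃ := Submodule.mkQ _ ∘ₗ
    ((f₂ ∘ₗ fst R M₂ N₁ ∘ₗ S.subtype).codRestrict (ker φ₃) hφ3)
  let r : S →ₗ[R] perH ψ₁ φ₁ := Submodule.mkQ _ ∘ₗ
    ((snd R M₂ N₁ ∘ₗ S.subtype).codRestrict (ker ψ₁) hψ1)
  have hp : Surjective p := by
    intro q
    obtain ⟨x₃, rfl⟩ := Submodule.Quotient.mk_surjective _ q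
    obtain ⟨x₂, hx₂⟩ := hf₂ x₃
    have c := DFunLike.congr_fun cφ₂ x₂
    simp only [LinearMap.comp_apply] at c
    obtain ⟨y₁, hy₁⟩ := (hN (φ₂ x₂)).1 (by rw [← c, hx₂]; exact x₃.2)
    exact ⟨⟨(x₂, y₁), by simp [S, hy₁]⟩, congr_arg Submodule.Quotient.mk (Subtype.ext hx₂)⟩
  have hpr : ker p ≤ ker r := by
    intro s hs
    obtain ⟨y₃, hy₃⟩ := hmk_eq_zero_iff.1 (mem_ker.1 hs)
    obtain ⟨y₂, rfl⟩ := hg₂ y₃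
    have c := DFunLike.congr_fun cψ₂ y₂
    simp only [LinearMap.comp_apply] at c
    have hy₃' : f₂ (ψ₂ y₂) = f₂ (s : M₂ × N₁).1 := c.symm.trans hy₃
    obtain ⟨x₁, hx₁⟩ := (hM ((s : M₂ × N₁).1 - ψ₂ y₂)).1 (by rw [map_sub, hy₃', sub_self])
    rw [mem_ker]
    refine hmk_eq_zero_iff.2 ⟨x₁, hg₁ ?_⟩
    have c' := DFunLike.congr_fun cφ₁ x₁
    simp only [LinearMap.comp_apply] at c'
    have hφ : φ₂ (ψ₂ y₂) = 0 := DFunLike.congr_fun h₂.1 y₂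
    rw [← c', hx₁, map_sub, hφ, sub_zero]
    exact hS s
  let δ : perH φ₃ ψ₃ →ₗ[R] perH ψ₁ φ₁ :=
    (ker p).liftQ r hpr ∘ₗ (p.quotKerEquivOfSurjective hp).symm.toLinearMap
  have hδ : ∀ s, δ (p s) = r s := fun s => by
    have e : (p.quotKerEquivOfSurjective hp).symm (p s) = Submodule.Quotient.mk s := by
      rw [LinearEquiv.symm_apply_eq]; rfl
    show (ker p).liftQ r hpr ((p.quotKerEquivOfSurjective hp).symm (p s)) = r s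
    rw [e]; rfl
  refine ⟨δ, ?_, ?_⟩
  · intro q
    obtain ⟨s, rfl⟩ := hp q
    rw [hδ]
    constructor
    · intro h
      obtain ⟨x₁, hx₁⟩ := hmk_eq_zero_iff.1 h
      have hx : φ₂ ((s : M₂ × N₁).1 - f₁ x₁) = 0 := by
        have c' := DFunLike.congr_fun cφ₁ x₁
        simp only [LinearMap.comp_apply] at c'
        have hx₁' : φ₁ x₁ = (s : M₂ × N₁).2 := hx₁
        rw [map_sub, c', hx₁', hS s, sub_self]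
      refine ⟨Submodule.Quotient.mk ⟨_, hx⟩, ?_⟩
      obtain ⟨_, e⟩ := perMap_mk f₂ g₂ cφ₂ cψ₂ ⟨_, hx⟩
      rw [e]
      refine congr_arg Submodule.Quotient.mk (Subtype.ext ?_)
      show f₂ ((s : M₂ × N₁).1 - f₁ x₁) = f₂ (s : M₂ × N₁).1
      rw [map_sub, hM.apply_apply_eq_zero, sub_zero]
    · rintro ⟨w, hw⟩
      obtain ⟨x₂, rfl⟩ := Submodule.Quotient.mk_surjective _ w
      let s₀ : S := ⟨((x₂ : M₂), 0), by simp [S]⟩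
      have : p s = p s₀ := by
        rw [← hw]; rfl
      rw [← hδ, this, hδ]
      exact (congr_arg Submodule.Quotient.mk (Subtype.ext rfl)).trans
        (Submodule.Quotient.mk_zero _)
  · intro q
    obtain ⟨y₁, rfl⟩ := Submodule.Quotient.mk_surjective _ q
    obtain ⟨_, e⟩ := perMap_mk g₁ f₁ cψ₁ cφ₁ y₁
    rw [e, hmk_eq_zero_iff]
    constructor
    · rintro ⟨x₂, hx₂⟩
      let s : S := ⟨(x₂, (y₁ : N₁)), by simp [S, hx₂]⟩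
      exact ⟨p s, hδ s⟩
    · rintro ⟨w, hw⟩
      obtain ⟨s, rfl⟩ := hp w
      rw [hδ] at hw
      obtain ⟨x₁, hx₁⟩ := hmk_eq_iff.1 hw
      refine ⟨(s : M₂ × N₁).1 - f₁ x₁, ?_⟩
      have c' := DFunLike.congr_fun cφ₁ x₁
      simp only [LinearMap.comp_apply] at c'
      have hx₁' : φ₁ x₁ = (s : M₂ × N₁).2 - y₁ := hx₁
      rw [map_sub, c', hx₁', hS s]
      simp

end seq

theorem hexagon {A₁ A₂ A₃ A₄ A₅ A₆ : Type v} [AddCommGroup A₁] [Module R A₁] [AddCommGroup A₂]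
    [Module R A₂] [AddCommGroup A₃] [Module R A₃] [AddCommGroup A₄] [Module R A₄] [AddCommGroup A₅]
    [Module R A₅] [AddCommGroup A₆] [Module R A₆] {f₁ : A₁ →ₗ[R] A₂} {f₂ : A₂ →ₗ[R] A₃}
    {f₃ : A₃ →ₗ[R] A₄} {f₄ : A₄ →ₗ[R] A₅} {f₅ : A₅ →ₗ[R] A₆} {f₆ : A₆ →ₗ[R] A₁}
    (e₁ : Exact f₁ f₂) (e₂ : Exact f₂ f₃) (e₃ : Exact f₃ f₄) (e₄ : Exact f₄ f₅) (e₅ : Exact f₅ f₆)
    (e₆ : Exact f₆ f₁) (l₁ : Module.length R A₁ ≠ ⊤) (l₂ : Module.length R A₂ ≠ ⊤)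
    (l₃ : Module.length R A₃ ≠ ⊤) (l₄ : Module.length R A₄ ≠ ⊤) (l₅ : Module.length R A₅ ≠ ⊤)
    (l₆ : Module.length R A₆ ≠ ⊤) :
    (lenZ R A₁ - lenZ R A₄) - (lenZ R A₂ - lenZ R A₅) + (lenZ R A₃ - lenZ R A₆) = 0 := by
  have := lenZ_eq_range_add e₁ l₂
  have := lenZ_eq_range_add e₂ l₃
  have := lenZ_eq_range_add e₃ l₄
  have := lenZ_eq_range_add e₄ l₅
  have := lenZ_eq_range_add e₅ l₆
  have := lenZ_eq_range_add e₆ l₁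
  linarith

theorem herbrand_eq_lenZ {M N : Type v} [AddCommGroup M] [Module R M] [AddCommGroup N] [Module R N]
    (φ : M →ₗ[R] N) (ψ : N →ₗ[R] M) :
    herbrand R φ ψ = lenZ R (perH φ ψ) - lenZ R (perH ψ φ) := rfl

theorem lenZ_perH {M N : Type v} [AddCommGroup M] [Module R M] [AddCommGroup N] [Module R N]
    {φ : M →ₗ[R] N} {ψ : N →ₗ[R] M} (h : φ ∘ₗ ψ = 0) (hM : Module.length R M ≠ ⊤) :
    Module.length R (perH φ ψ) ≠ ⊤ ∧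
      lenZ R (perH φ ψ) = lenZ R M - lenZ R (range φ) - lenZ R (range ψ) := by
  have hle : range ψ ≤ ker φ := range_le_ker_iff.2 h
  have hk : Module.length R (ker φ) ≠ ⊤ :=
    ne_top_of_le_ne_top hM (Module.length_le_of_injective _ (Submodule.injective_subtype _))
  refine ⟨ne_top_of_le_ne_top hk (Module.length_le_of_surjective _ (Submodule.mkQ_surjective _)), ?_⟩
  have a := lenZ_eq_range_add (exact_subtype_mkQ ((range ψ).submoduleOf (ker φ))) hk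
  rw [lenZ_of_injective (Submodule.injective_subtype _),
    lenZ_of_surjective (Submodule.mkQ_surjective _),
    lenZ_congr (Submodule.submoduleOfEquivOfLe hle)] at a
  have b := lenZ_eq_range_add (exact_subtype_ker_map φ) hM
  rw [lenZ_of_injective (Submodule.injective_subtype _)] at b
  linarith

theorem finCoh_herbrand_of_finite {M N : Type v} [AddCommGroup M] [Module R M] [AddCommGroup N]
    [Module R N] {φ : M →ₗ[R] N} {ψ : N →ₗ[R] M} (h : IsPeriodic φ ψ)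
    (hM : Module.length R M ≠ ⊤) (hN : Module.length R N ≠ ⊤) :
    FinCoh R φ ψ ∧ herbrand R φ ψ = lenZ R M - lenZ R N := by
  obtain ⟨a, a'⟩ := lenZ_perH h.1 hM
  obtain ⟨b, b'⟩ := lenZ_perH h.2 hN
  exact ⟨⟨a.lt_top, b.lt_top⟩, by rw [herbrand_eq_lenZ, a', b']; ring⟩

section short

variable {M₁ N₁ M₂ N₂ M₃ N₃ : Type v} [AddCommGroup M₁] [Module R M₁] [AddCommGroup N₁]
  [Module R N₁] [AddCommGroup M₂] [Module R M₂] [AddCommGroup N₂] [Module R N₂] [AddCommGroup M₃]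
  [Module R M₃] [AddCommGroup N₃] [Module R N₃]
  {φ₁ : M₁ →ₗ[R] N₁} {ψ₁ : N₁ →ₗ[R] M₁} {φ₂ : M₂ →ₗ[R] N₂} {ψ₂ : N₂ →ₗ[R] M₂}
  {φ₃ : M₃ →ₗ[R] N₃} {ψ₃ : N₃ →ₗ[R] M₃}
  {f₁ : M₁ →ₗ[R] M₂} {g₁ : N₁ →ₗ[R] N₂} {f₂ : M₂ →ₗ[R] M₃} {g₂ : N₂ →ₗ[R] N₃}

theorem herbrand_shortExact (h₂ : IsPeriodic φ₂ ψ₂)
    (cφ₁ : φ₂ ∘ₗ f₁ = g₁ ∘ₗ φ₁) (cψ₁ : ψ₂ ∘ₗ g₁ = f₁ ∘ₗ ψ₁)
    (cφ₂ : φ₃ ∘ₗ f₂ = g₂ ∘ₗ φ₂) (cψ₂ : ψ₃ ∘ₗ g₂ = f₂ ∘ₗ ψ₂)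
    (hf₁ : Injective f₁) (hg₁ : Injective g₁) (hf₂ : Surjective f₂) (hg₂ : Surjective g₂)
    (hM : Exact f₁ f₂) (hN : Exact g₁ g₂)
    (htwo : (FinCoh R φ₁ ψ₁ ∧ FinCoh R φ₂ ψ₂) ∨ (FinCoh R φ₁ ψ₁ ∧ FinCoh R φ₃ ψ₃) ∨
      (FinCoh R φ₂ ψ₂ ∧ FinCoh R φ₃ ψ₃)) :
    FinCoh R φ₁ ψ₁ ∧ FinCoh R φ₂ ψ₂ ∧ FinCoh R φ₃ ψ₃ ∧
      herbrand R φ₂ ψ₂ = herbrand R φ₁ ψ₁ + herbrand R φ₃ ψ₃ := by
  have h₂' : IsPeriodic ψ₂ φ₂ := ⟨h₂.2, h₂.1⟩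
  have e₁ := exact_mid cφ₁ cψ₁ cφ₂ cψ₂ h₂ hg₁ hg₂ hM
  have e₄ := exact_mid cψ₁ cφ₁ cψ₂ cφ₂ h₂' hf₁ hf₂ hN
  obtain ⟨δ, e₂, e₃⟩ := exists_connecting cφ₁ cψ₁ cφ₂ cψ₂ h₂ hf₁ hg₁ hf₂ hg₂ hM hN
  obtain ⟨δ', e₅, e₆⟩ := exists_connecting cψ₁ cφ₁ cψ₂ cφ₂ h₂' hg₁ hf₁ hg₂ hf₂ hN hM
  have key : ((Module.length R (perH φ₁ ψ₁) ≠ ⊤ ∧ Module.length R (perH ψ₁ φ₁) ≠ ⊤) ∧
      (Module.length R (perH φ₂ ψ₂) ≠ ⊤ ∧ Module.length R (perH ψ₂ φ₂) ≠ ⊤) ∧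
      (Module.length R (perH φ₃ ψ₃) ≠ ⊤ ∧ Module.length R (perH ψ₃ φ₃) ≠ ⊤)) := by
    rcases htwo with ⟨⟨a, a'⟩, ⟨b, b'⟩⟩ | ⟨⟨a, a'⟩, ⟨c, c'⟩⟩ | ⟨⟨b, b'⟩, ⟨c, c'⟩⟩
    · exact ⟨⟨a.ne, a'.ne⟩, ⟨b.ne, b'.ne⟩, length_ne_top_of_exact e₂ b.ne a'.ne,
        length_ne_top_of_exact e₅ b'.ne a.ne⟩
    · exact ⟨⟨a.ne, a'.ne⟩, ⟨length_ne_top_of_exact e₁ a.ne c.ne,
        length_ne_top_of_exact e₄ a'.ne c'.ne⟩, c.ne, c'.ne⟩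
    · exact ⟨⟨length_ne_top_of_exact e₆ c'.ne b.ne, length_ne_top_of_exact e₃ c.ne b'.ne⟩,
        ⟨b.ne, b'.ne⟩, c.ne, c'.ne⟩
  obtain ⟨⟨a, a'⟩, ⟨b, b'⟩, ⟨c, c'⟩⟩ := key
  refine ⟨⟨a.lt_top, a'.lt_top⟩, ⟨b.lt_top, b'.lt_top⟩, ⟨c.lt_top, c'.lt_top⟩, ?_⟩
  have := hexagon e₁ e₂ e₃ e₄ e₅ e₆ a b c a' b' c'
  simp only [herbrand_eq_lenZ]
  linarith

end short

end Groth.Agent.CycHerb
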