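import Mathlib.RingTheory.Length
import Mathlib.RingTheory.Ideal.AssociatedPrime.Finiteness
import Mathlib.RingTheory.KrullDimension.Module
import Mathlib.RingTheory.KrullDimension.Regular
import Mathlib.RingTheory.Support
import Mathlib.RingTheory.SimpleModule.Basic

/-!
Finite length criteria through supports.
-/

namespace Groth.Agent.CycHerb

open Pointwise

universe u v

variable {R : Type u} [CommRing R] [IsNoetherianRing R]

theorem length_ne_top_of_support_maximal {M : Type v} [AddCommGroup M] [Module R M]
    [hM : Module.Finite R M] (h : ∀ p ∈ Module.support R M, p.asIdeal.IsMaximal) :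
    Module.length R M ≠ ⊤ := by
  revert h
  induction hM using IsNoetherianRing.induction_on_isQuotientEquivQuotientPrime R with
  | subsingleton N => intro _; simp [Module.length_eq_zero]
  | quotient N p f =>
    intro h
    have hp : p.asIdeal.IsMaximal := h p (by
      rw [f.support_eq, Module.support_eq_zeroLocus, Ideal.annihilator_quotient]
      exact le_refl p.asIdeal)
    have : IsSimpleModule R N := by
      have : IsSimpleModule R (R ⧸ p.asIdeal) :=
        isSimpleModule_iff_isCoatom.2 (Ideal.isMaximal_def.1 hp)
      exact IsSimpleModule.congr f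
    rw [Module.length_eq_one_iff.2 this]
    exact ENat.coe_ne_top 1
  | exact N₁ N₂ N₃ f g hf hg hfg h₁ h₃ =>
    intro h
    rw [Module.length_eq_add_of_exact f g hf hg hfg]
    exact WithTop.add_ne_top.2
      ⟨h₁ fun p hp => h p (Module.support_subset_of_injective f hf hp),
        h₃ fun p hp => h p (Module.support_subset_of_surjective g hg hp)⟩

variable [IsLocalRing R]

theorem isMaximal_of_supportDim_le_zero {M : Type v} [AddCommGroup M] [Module R M]
    (h : Module.supportDim R M ≤ 0) {p : PrimeSpectrum R} (hp : p ∈ Module.support R M) :
    p.asIdeal.IsMaximal := by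
  have hle : p ≤ IsLocalRing.closedPoint R := IsLocalRing.le_maximalIdeal p.2.ne_top
  have hm : IsLocalRing.closedPoint R ∈ Module.support R M := Module.mem_support_mono hle hp
  have := (Order.krullDim_nonpos_iff_forall_isMax.1 h) ⟨p, hp⟩
    (b := ⟨_, hm⟩) hle
  have e : p = IsLocalRing.closedPoint R := le_antisymm hle this
  rw [e]
  exact IsLocalRing.maximalIdeal.isMaximal R

theorem length_ne_top_of_supportDim_le_zero {M : Type v} [AddCommGroup M] [Module R M]
    [Module.Finite R M] (h : Module.supportDim R M ≤ 0) : Module.length R M ≠ ⊤ :=
  length_ne_top_of_support_maximal fun _ hp => isMaximal_of_supportDim_le_zero h hp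

/-- If `M/xM` has support of dimension ≤ 0 then so does every submodule of `M` killed by `x`. -/
theorem length_ne_top_of_killed {M : Type v} [AddCommGroup M] [Module R M] [Module.Finite R M]
    {x : R} (h : Module.supportDim R (M ⧸ x • (⊤ : Submodule R M)) ≤ 0) (K : Submodule R M)
    (hK : ∀ m ∈ K, x • m = 0) : Module.length R K ≠ ⊤ := by
  refine length_ne_top_of_support_maximal fun p hp => ?_
  refine isMaximal_of_supportDim_le_zero h ?_
  show p ∈ Module.support R (QuotSMulTop x M)
  rw [Module.support_quotSMulTop]
  refine ⟨Module.support_subset_of_injective _ (Submodule.injective_subtype K) hp, ?_⟩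
  rw [PrimeSpectrum.mem_zeroLocus, Set.singleton_subset_iff]
  refine Module.annihilator_le_of_mem_support hp ?_
  rw [Module.mem_annihilator]
  exact fun m => Subtype.ext (hK _ m.2)

end Groth.Agent.CycHerb
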