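import Groth.Agent.CycHerb.Basic
import Mathlib.Algebra.Module.LinearMap.End

/-!
Periodic complexes cut out by powers of a nilpotent endomorphism.
-/

namespace Groth.Agent.CycHerb

open Function LinearMap Groth.Agent.LenLib CycAlg

universe u v

variable {R : Type u} [CommRing R] {M : Type v} [AddCommGroup M] [Module R M] (φ : M →ₗ[R] M)
  (n : ℕ)

/-- ker φ^a / im φ^(n-a) -/
abbrev powH (a : ℕ) : Type v := perH (φ ^ a) (φ ^ (n - a))

theorem pow_apply_add (a b : ℕ) (x : M) : (φ ^ (a + b)) x = (φ ^ a) ((φ ^ b) x) := by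
  rw [pow_add, Module.End.mul_apply]

variable {φ n}

theorem pow_apply_eq_zero_of_le {a b : ℕ} (h : a ≤ b) {x : M} (hx : (φ ^ a) x = 0) :
    (φ ^ b) x = 0 := by
  rw [show b = (b - a) + a by omega, pow_apply_add, hx, map_zero]

/-- multiplication by φ^k from powH a to powH a' -/
noncomputable def powMap (a a' k : ℕ) (h : a ≤ a' + k) (h' : n - a' ≤ n - a + k) :
    powH φ n a →ₗ[R] powH φ n a' :=
  Submodule.mapQ _ _
    ((φ ^ k).restrict (p := ker (φ ^ a)) (q := ker (φ ^ a')) fun x hx => by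
      rw [mem_ker] at hx ⊢
      rw [← pow_apply_add]
      exact pow_apply_eq_zero_of_le h hx)
    (by
      rintro x ⟨y, hy⟩
      refine ⟨(φ ^ (n - a + k - (n - a'))) y, ?_⟩
      rw [← pow_apply_add, show (n - a') + (n - a + k - (n - a')) = k + (n - a) by omega,
        pow_apply_add, hy]
      rfl)

theorem powMap_mk (a a' k : ℕ) (h : a ≤ a' + k) (h' : n - a' ≤ n - a + k) (x : ker (φ ^ a)) :
    ∃ hh : (φ ^ k) x ∈ ker (φ ^ a'),
      powMap a a' k h h' (Submodule.Quotient.mk x) = Submodule.Quotient.mk ⟨(φ ^ k) x, hh⟩ := by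
  refine ⟨?_, rfl⟩
  rw [mem_ker, ← pow_apply_add]
  exact pow_apply_eq_zero_of_le h (mem_ker.1 x.2)

/-- exactness for multiplication by φ^k followed by an inclusion -/
theorem exact_pow_incl (hφ : φ ^ n = 0) (a a' a'' k : ℕ) (ha : a = a' + k) (h'' : a'' + k = n)
    {h1 : a ≤ a' + k} {h2 : n - a' ≤ n - a + k} {h3 : a' ≤ a'' + 0} {h4 : n - a'' ≤ n - a' + 0} :
    Exact (powMap (φ := φ) a a' k h1 h2) (powMap a' a'' 0 h3 h4) := by
  intro q
  obtain ⟨x, rfl⟩ := Submodule.Quotient.mk_surjective _ q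
  obtain ⟨_, e⟩ := powMap_mk a' a'' 0 h3 h4 x
  rw [e, hmk_eq_zero_iff]
  constructor
  · rintro ⟨y, hy⟩
    have hy' : (φ ^ k) y = (x : M) := by
      rw [show k = n - a'' by omega]
      simpa using hy
    have hya : (φ ^ a) y = 0 := by
      rw [ha, pow_apply_add, hy']; exact x.2
    refine ⟨Submodule.Quotient.mk ⟨y, hya⟩, ?_⟩
    obtain ⟨_, e'⟩ := powMap_mk a a' k h1 h2 ⟨y, hya⟩
    rw [e']
    exact congr_arg Submodule.Quotient.mk (Subtype.ext hy')
  · rintro ⟨w, hw⟩
    obtain ⟨z, rfl⟩ := Submodule.Quotient.mk_surjective _ w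
    obtain ⟨_, e'⟩ := powMap_mk a a' k h1 h2 z
    rw [e', hmk_eq_iff] at hw
    obtain ⟨t, ht⟩ := hw
    refine ⟨(z : M) - (φ ^ (n - a' - k)) t, ?_⟩
    rw [map_sub, show n - a'' = k by omega, ← pow_apply_add,
      show k + (n - a' - k) = n - a' by omega, ht]
    simp

/-- exactness for an inclusion followed by multiplication by φ^a -/
theorem exact_incl_pow (hφ : φ ^ n = 0) (a a' a'' : ℕ) (ha' : a' ≤ n)
    (h'' : n - a'' = a + (n - a'))
    {h1 : a ≤ a' + 0} {h2 : n - a' ≤ n - a + 0} {h3 : a' ≤ a'' + a}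
    {h4 : n - a'' ≤ n - a' + a} :
    Exact (powMap (φ := φ) a a' 0 h1 h2) (powMap a' a'' a h3 h4) := by
  intro q
  obtain ⟨x, rfl⟩ := Submodule.Quotient.mk_surjective _ q
  obtain ⟨_, e⟩ := powMap_mk a' a'' a h3 h4 x
  rw [e, hmk_eq_zero_iff]
  constructor
  · rintro ⟨y, hy⟩
    have hz : (φ ^ a) ((x : M) - (φ ^ (n - a')) y) = 0 := by
      rw [map_sub, ← pow_apply_add, ← h'', hy, sub_self]
    refine ⟨Submodule.Quotient.mk ⟨_, hz⟩, ?_⟩
    obtain ⟨_, e'⟩ := powMap_mk a a' 0 h1 h2 ⟨_, hz⟩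
    rw [e', hmk_eq_iff]
    exact ⟨-y, by simp⟩
  · rintro ⟨w, hw⟩
    obtain ⟨z, rfl⟩ := Submodule.Quotient.mk_surjective _ w
    obtain ⟨_, e'⟩ := powMap_mk a a' 0 h1 h2 z
    rw [e', hmk_eq_iff] at hw
    obtain ⟨t, ht⟩ := hw
    refine ⟨-t, ?_⟩
    have hz : (φ ^ a) (z : M) = 0 := z.2
    have ht' : (φ ^ (n - a')) t = (z : M) - x := by simpa using ht
    rw [map_neg, h'', pow_apply_add, ht', map_sub, hz]
    simp

theorem finCoh_herbrand_pow_eq_zero (hn : 0 < n) (hφ : φ ^ n = 0)
    (hfin : Module.length R (perH φ (φ ^ (n - 1))) < ⊤) (i : ℕ) (hi : i ≤ n) :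
    FinCoh R (φ ^ i) (φ ^ (n - i)) ∧ herbrand R (φ ^ i) (φ ^ (n - i)) = 0 := by
  have h1 : Module.length R (powH φ n 1) ≠ ⊤ := by
    show Module.length R (perH (φ ^ 1) (φ ^ (n - 1))) ≠ ⊤
    rw [pow_one]; exact hfin.ne
  have h0 : Subsingleton (powH φ n 0) := by
    have : ker (φ ^ 0) = ⊥ := by rw [pow_zero, Module.End.one_eq_id, ker_id]
    have : Subsingleton (ker (φ ^ 0)) := Submodule.subsingleton_iff_eq_bot.2 this
    exact (Submodule.Quotient.mk_surjective _).subsingleton
  have hn' : Subsingleton (powH φ n n) := by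
    rw [Submodule.Quotient.subsingleton_iff, eq_top_iff]
    intro x _
    exact ⟨(x : M), by simp⟩
  have fin : ∀ a, a ≤ n → Module.length R (powH φ n a) ≠ ⊤ := by
    intro a
    induction a with
    | zero => intro _; simp [Module.length_eq_zero]
    | succ a ih =>
      intro ha
      exact length_ne_top_of_exact
        (exact_incl_pow hφ 1 (a + 1) a ha (by omega)
          (h1 := by omega) (h2 := by omega) (h3 := by omega) (h4 := by omega))
        h1 (ih (by omega))
  let e : ℕ → ℤ := fun a => lenZ R (powH φ n a) - lenZ R (powH φ n (n - a))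
  have step : ∀ a, a + 1 ≤ n → e (a + 1) = e a + e 1 := by
    intro a ha
    have := hexagon (R := R)
      (f₁ := powMap (φ := φ) (n := n) (a + 1) a 1 (by omega) (by omega))
      (f₂ := powMap a (n - 1) 0 (by omega) (by omega))
      (f₃ := powMap (n - 1) (n - (a + 1)) a (by omega) (by omega))
      (f₄ := powMap (n - (a + 1)) (n - a) 0 (by omega) (by omega))
      (f₅ := powMap (n - a) 1 (n - (a + 1)) (by omega) (by omega))
      (f₆ := powMap 1 (a + 1) 0 (by omega) (by omega))
      (exact_pow_incl hφ _ _ _ _ (by omega) (by omega))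
      (exact_incl_pow hφ _ _ _ (by omega) (by omega))
      (exact_pow_incl hφ _ _ _ _ (by omega) (by omega))
      (exact_incl_pow hφ _ _ _ (by omega) (by omega))
      (exact_pow_incl hφ _ _ _ _ (by omega) (by omega))
      (exact_incl_pow hφ _ _ _ (by omega) (by omega))
      (fin _ (by omega)) (fin _ (by omega)) (fin _ (by omega)) (fin _ (by omega))
      (fin _ (by omega)) (fin _ (by omega))
    simp only [e]
    linarith
  have hlin : ∀ a, a ≤ n → e a = (a : ℤ) * e 1 := by
    intro a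
    induction a with
    | zero => intro _; simp [e, lenZ, Module.length_eq_zero]
    | succ a ih => intro ha; rw [step a ha, ih (by omega)]; push_cast; ring
  have hen : e n = 0 := by
    have : Subsingleton (powH φ n (n - n)) := by rw [Nat.sub_self]; exact h0
    simp [e, lenZ, Module.length_eq_zero]
  have he1 : e 1 = 0 := by
    have := hlin n le_rfl
    rw [hen] at this
    rcases mul_eq_zero.1 this.symm with h | h
    · omega
    · exact h
  have key := hlin i hi
  rw [he1, mul_zero] at key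
  have heq : herbrand R (φ ^ i) (φ ^ (n - i)) = e i := by
    have : n - (n - i) = i := by omega
    simp only [e, herbrand_eq_lenZ]
    show _ = lenZ R (perH (φ ^ i) (φ ^ (n - i))) - lenZ R (perH (φ ^ (n - i)) (φ ^ (n - (n - i))))
    rw [this]
  refine ⟨⟨(fin i hi).lt_top, ?_⟩, heq.trans key⟩
  have := fin (n - i) (by omega)
  change Module.length R (perH (φ ^ (n - i)) (φ ^ (n - (n - i)))) ≠ ⊤ at this
  rw [show n - (n - i) = i by omega] at this
  exact this.lt_top

end Groth.Agent.CycHerb
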