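import Groth.Agent.CycHerb.Basic
import Groth.Agent.CycHerb.FiniteLength

/-!
Scaling one differential of a periodic complex.
-/

namespace Groth.Agent.CycHerb

open Function LinearMap Groth.Agent.LenLib CycAlg Pointwise

universe u v

variable {R : Type u} [CommRing R]

theorem lenZ_perH_zero {I J : Type v} [AddCommGroup I] [Module R I] [AddCommGroup J] [Module R J]
    (g : J →ₗ[R] I) :
    Nonempty (perH (0 : I →ₗ[R] J) g ≃ₗ[R] (I ⧸ range g)) ∧
      Nonempty (perH g (0 : I →ₗ[R] J) ≃ₗ[R] ker g) := by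
  constructor
  · let p : ker (0 : I →ₗ[R] J) →ₗ[R] (I ⧸ range g) :=
      (range g).mkQ ∘ₗ (ker (0 : I →ₗ[R] J)).subtype
    have hp : Surjective p := fun q => by
      obtain ⟨z, rfl⟩ := Submodule.mkQ_surjective _ q
      exact ⟨⟨z, by simp⟩, rfl⟩
    have hk : ker p = (range g).submoduleOf (ker (0 : I →ₗ[R] J)) := by
      rw [ker_comp, Submodule.ker_mkQ]; rfl
    exact ⟨(Submodule.quotEquivOfEq _ _ hk.symm).trans (p.quotKerEquivOfSurjective hp)⟩
  · refine ⟨Submodule.quotEquivOfEqBot _ ?_⟩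
    rw [eq_bot_iff]
    rintro z ⟨w, hw⟩
    exact Subtype.ext hw.symm

theorem herbrand_smul_aux [IsNoetherianRing R] [IsLocalRing R] {M N : Type v} [AddCommGroup M]
    [Module R M] [AddCommGroup N] [Module R N] [Module.Finite R M] [Module.Finite R N]
    (φ : M →ₗ[R] N) (ψ : N →ₗ[R] M) (hper : IsPeriodic φ ψ) (hfin : FinCoh R φ ψ) (x : R)
    (hxM : Module.supportDim R (M ⧸ x • (⊤ : Submodule R M)) ≤ 0)
    (hxN : Module.supportDim R (N ⧸ x • (⊤ : Submodule R N)) ≤ 0) :
    FinCoh R (x • φ) ψ ∧ herbrand R (x • φ) ψ = herbrand R φ ψ -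
      herbrand R (0 : ↥(range φ) →ₗ[R] ↥(range φ)) (x • LinearMap.id) := by
  set g : range φ →ₗ[R] range φ := x • LinearMap.id with hg
  have hgv : ∀ z, ((g z : range φ) : N) = x • (z : N) := fun z => rfl
  obtain ⟨⟨E0⟩, ⟨E1⟩⟩ := lenZ_perH_zero (R := R) g
  -- finiteness
  have hgk : Module.length R (ker g) ≠ ⊤ := by
    have := length_ne_top_of_killed hxN ((ker g).map (range φ).subtype) (by
      rintro _ ⟨z, hz, rfl⟩
      have := congr_arg Subtype.val (mem_ker.1 hz)
      exact this)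
    rwa [← (Submodule.equivMapOfInjective (range φ).subtype (Submodule.injective_subtype _)
      (ker g)).length_eq] at this
  have hgq : Module.length R ((range φ) ⧸ range g) ≠ ⊤ := by
    refine ne_top_of_le_ne_top (length_ne_top_of_supportDim_le_zero hxM)
      (Module.length_le_of_surjective ((x • (⊤ : Submodule R M)).mapQ (range g) φ.rangeRestrict
        ?_) ?_)
    · intro m hm
      obtain ⟨m', -, rfl⟩ := (Submodule.mem_smul_pointwise_iff_exists _ _ _).1 hm
      exact ⟨φ.rangeRestrict m', by rw [map_smul]; rfl⟩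
    · intro q
      obtain ⟨z, rfl⟩ := Submodule.mkQ_surjective _ q
      obtain ⟨m, rfl⟩ := φ.surjective_rangeRestrict z
      exact ⟨Submodule.Quotient.mk m, rfl⟩
  -- sequence 1
  let a : perH φ ψ →ₗ[R] perH (x • φ) ψ :=
    Submodule.mapQ _ _ (Submodule.inclusion (p := ker φ) (p' := ker (x • φ))
      (fun z hz => by simp [mem_ker.1 hz])) (fun z hz => hz)
  let b₀ : ker (x • φ) →ₗ[R] ker g :=
    (φ.rangeRestrict ∘ₗ (ker (x • φ)).subtype).codRestrict (ker g) (fun z =>
      Subtype.ext (show x • φ (z : M) = 0 from z.2))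
  let b : perH (x • φ) ψ →ₗ[R] ker g := Submodule.liftQ _ b₀ (by
    rintro z ⟨w, hw⟩
    refine Subtype.ext (Subtype.ext ?_)
    show φ (z : M) = 0
    have e : φ (ψ w) = 0 := DFunLike.congr_fun hper.1 w
    rw [hw] at e; exact e)
  have ha : Injective a := by
    rw [← ker_eq_bot, eq_bot_iff]
    intro q hq
    obtain ⟨z, rfl⟩ := Submodule.Quotient.mk_surjective _ q
    exact (Submodule.Quotient.mk_eq_zero _).2 ((Submodule.Quotient.mk_eq_zero _).1 (mem_ker.1 hq) :)
  have hb : Surjective b := by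
    rintro ⟨⟨_, m, rfl⟩, hm⟩
    have hm' : x • φ m = 0 := congr_arg Subtype.val (mem_ker.1 hm)
    exact ⟨Submodule.Quotient.mk ⟨m, by simpa using hm'⟩, rfl⟩
  have hab : Exact a b := by
    intro q
    obtain ⟨z, rfl⟩ := Submodule.Quotient.mk_surjective _ q
    constructor
    · intro h
      have h' : φ (z : M) = 0 := congr_arg (fun t : ker g => ((t : range φ) : N)) h
      exact ⟨Submodule.Quotient.mk ⟨(z : M), h'⟩, rfl⟩
    · rintro ⟨w, hw⟩
      obtain ⟨y, rfl⟩ := Submodule.Quotient.mk_surjective _ w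
      rw [← hw]
      exact Subtype.ext (Subtype.ext (mem_ker.1 y.2))
  -- sequence 2
  let c : ((range φ) ⧸ range g) →ₗ[R] perH ψ (x • φ) :=
    (range g).mapQ _ (Submodule.inclusion (p := range φ) (p' := ker ψ)
      (range_le_ker_iff.2 hper.2)) (by
      rintro _ ⟨⟨_, m, rfl⟩, rfl⟩
      exact ⟨m, rfl⟩)
  let d : perH ψ (x • φ) →ₗ[R] perH ψ φ :=
    Submodule.mapQ _ _ LinearMap.id (by
      rintro z ⟨m, hm⟩
      refine ⟨x • m, ?_⟩
      rw [map_smul]; exact hm)
  have hc : Injective c := by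
    rw [← ker_eq_bot, eq_bot_iff]
    intro q hq
    obtain ⟨z, rfl⟩ := Submodule.Quotient.mk_surjective _ q
    obtain ⟨m, hm⟩ := (Submodule.Quotient.mk_eq_zero _).1 (mem_ker.1 hq)
    exact (Submodule.Quotient.mk_eq_zero _).2 ⟨φ.rangeRestrict m, Subtype.ext hm⟩
  have hd : Surjective d := fun q => by
    obtain ⟨z, rfl⟩ := Submodule.Quotient.mk_surjective _ q
    exact ⟨Submodule.Quotient.mk z, rfl⟩
  have hcd : Exact c d := by
    intro q
    obtain ⟨z, rfl⟩ := Submodule.Quotient.mk_surjective _ q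
    constructor
    · intro h
      obtain ⟨m, hm⟩ := (Submodule.Quotient.mk_eq_zero _).1 h
      exact ⟨Submodule.Quotient.mk (φ.rangeRestrict m),
        congr_arg Submodule.Quotient.mk (Subtype.ext hm)⟩
    · rintro ⟨w, hw⟩
      obtain ⟨⟨_, m, rfl⟩, rfl⟩ := Submodule.Quotient.mk_surjective _ w
      rw [← hw]
      exact (Submodule.Quotient.mk_eq_zero _).2 ⟨m, rfl⟩
  have f1 := length_ne_top_of_exact hab hfin.1.ne hgk
  have f2 := length_ne_top_of_exact hcd hgq hfin.2.ne
  refine ⟨⟨f1.lt_top, f2.lt_top⟩, ?_⟩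
  have l1 := lenZ_eq_range_add hab f1
  have l2 := lenZ_eq_range_add hcd f2
  rw [lenZ_of_injective ha, lenZ_of_surjective hb] at l1
  rw [lenZ_of_injective hc, lenZ_of_surjective hd] at l2
  simp only [herbrand_eq_lenZ, lenZ_congr E0, lenZ_congr E1]
  linarith

end Groth.Agent.CycHerb
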